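import Groth.Agent.Lib.Flatness.Criterion
import Groth.Agent.Lib.FibreFlat.LocCriterion
import Mathlib.RingTheory.Flat.EquationalCriterion
import Mathlib.RingTheory.Filtration
import Mathlib.RingTheory.AdicCompletion.Completeness
import Mathlib.LinearAlgebra.TensorProduct.Quotient

/-!
# A complete module with flat levels over a Noetherian ring is flat
-/

set_option linter.style.haveILetI false
universe u

open TensorProduct

namespace GrothLib.FlatComplete

/-- Relations in `N` modulo an ideal are trivial modulo that ideal. -/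
def LevelTriv {A : Type u} [CommRing A] (J : Ideal A) (N : Type u) [AddCommGroup N] [Module A N] : Prop :=
  ∀ (p r : ℕ) (f : (Fin p → A) →ₗ[A] (Fin r → A)) (δ : Fin p → N),
    (∀ i, ∑ s, f (Pi.single s 1) i • δ s ∈ J • (⊤ : Submodule A N)) →
    ∃ (l : ℕ) (al : Fin l → Fin p → A) (t : Fin l → N), (∀ j i, f (al j) i ∈ J) ∧
      ∀ s, δ s - ∑ j, al j s • t j ∈ J • (⊤ : Submodule A N)

section
variable {A : Type u} [CommRing A] {N : Type u} [AddCommGroup N] [Module A N]

theorem smul_top_pi {r : ℕ} (J : Ideal A) (v : Fin r → A) :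
    v ∈ J • (⊤ : Submodule A (Fin r → A)) ↔ ∀ i, v i ∈ J := by
  refine ⟨fun h i => ?_, fun h => ?_⟩
  · exact Submodule.smul_induction_on h
      (fun a ha y _ => by rw [Pi.smul_apply, smul_eq_mul]; exact J.mul_mem_right _ ha)
      fun a b ha hb => add_mem ha hb
  · rw [pi_eq_sum_univ v]
    exact Submodule.sum_mem _ fun i _ => Submodule.smul_mem_smul (h i) Submodule.mem_top

theorem sum_single_smul {p r : ℕ} (f : (Fin p → A) →ₗ[A] (Fin r → A)) (v : Fin p → A) (i : Fin r) :
    f v i = ∑ s, v s * f (Pi.single s 1) i := by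
  conv_lhs => rw [pi_eq_sum_univ v]
  rw [map_sum, Finset.sum_apply]
  refine Finset.sum_congr rfl fun s _ => ?_
  rw [map_smul, Pi.smul_apply, smul_eq_mul]
  have h : (fun t => if s = t then (1 : A) else 0) = Pi.single s 1 := by
    ext t; simp [Pi.single_apply, eq_comm]
  rw [h]

theorem key [IsNoetherianRing A] {a : Ideal A} (h : ∀ n, LevelTriv (a ^ n) N) {p r q : ℕ}
    (f : (Fin p → A) →ₗ[A] (Fin r → A)) (g : Fin q → Fin p → A)
    (hg : Submodule.span A (Set.range g) = LinearMap.ker f) :
    ∃ c, ∀ n (δ : Fin p → N), (∀ i, ∑ s, f (Pi.single s 1) i • δ s ∈ a ^ (n + c) • (⊤ : Submodule A N)) →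
      ∃ v : Fin q → N, ∀ s, δ s - ∑ t, g t s • v t ∈ a ^ n • (⊤ : Submodule A N) := by
  obtain ⟨c, hc⟩ := a.exists_pow_inf_eq_pow_smul (LinearMap.range f)
  refine ⟨c, fun n δ hδ => ?_⟩
  obtain ⟨l, al, t, hal, hδt⟩ := h (n + c) p r f δ hδ
  have hlift : ∀ j, ∃ coef : Fin q → A, ∀ s, al j s - ∑ k, coef k * g k s ∈ a ^ n := by
    intro j
    have h1 : f (al j) ∈ a ^ (n + c) • (⊤ : Submodule A (Fin r → A)) ⊓ LinearMap.range f :=
      ⟨(smul_top_pi _ _).2 (hal j), LinearMap.mem_range_self _ _⟩
    rw [hc (n + c) le_add_self, Nat.add_sub_cancel] at h1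
    have h2 : f (al j) ∈ (a ^ n • (⊤ : Submodule A (Fin p → A))).map f := by
      rw [Submodule.map_smul'', Submodule.map_top]
      exact Submodule.smul_mono le_rfl inf_le_right h1
    obtain ⟨b, hb, hfb⟩ := h2
    have h3 : al j - b ∈ Submodule.span A (Set.range g) := by
      rw [hg, LinearMap.mem_ker, map_sub, hfb, sub_self]
    obtain ⟨coef, hcoef⟩ := (Submodule.mem_span_range_iff_exists_fun A).1 h3
    refine ⟨coef, fun s => ?_⟩
    have h4 := congrFun hcoef s
    simp only [Finset.sum_apply, Pi.smul_apply, smul_eq_mul, Pi.sub_apply] at h4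
    rw [h4, sub_sub_cancel]
    exact (smul_top_pi _ _).1 hb s
  choose coef hcoef using hlift
  refine ⟨fun k => ∑ j, coef j k • t j, fun s => ?_⟩
  have e : δ s - ∑ k, g k s • (∑ j, coef j k • t j) =
      (δ s - ∑ j, al j s • t j) + ∑ j, (al j s - ∑ k, coef j k * g k s) • t j := by
    simp only [sub_smul, Finset.sum_sub_distrib, Finset.sum_smul, Finset.smul_sum, smul_smul]
    rw [Finset.sum_comm (f := fun k j => (g k s * coef j k) • t j)]
    simp only [mul_comm (g _ s)]
    abel
  rw [e]
  refine add_mem (Submodule.smul_mono_left (Ideal.pow_le_pow_right (Nat.le_add_right n c)) (hδt s)) ?_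
  exact Submodule.sum_mem _ fun j _ => Submodule.smul_mem_smul (hcoef j s) Submodule.mem_top

theorem flat_of_levelTriv [IsNoetherianRing A] (a : Ideal A) [IsAdicComplete a N]
    (h : ∀ n, LevelTriv (a ^ n) N) : Module.Flat A N := by
  classical
  refine Module.Flat.of_forall_isTrivialRelation fun {r f x} hfx => ?_
  let F : (Fin r → A) →ₗ[A] (Fin 1 → A) := LinearMap.pi fun _ => Fintype.linearCombination A f
  obtain ⟨p, k, hk⟩ := Submodule.fg_iff_exists_fin_generating_family.mp (IsNoetherian.noetherian (LinearMap.ker F))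
  let K : (Fin p → A) →ₗ[A] (Fin r → A) := Fintype.linearCombination A k
  obtain ⟨q, rel, hrel⟩ := Submodule.fg_iff_exists_fin_generating_family.mp (IsNoetherian.noetherian (LinearMap.ker K))
  obtain ⟨c₀, hc₀⟩ := key h F k hk
  obtain ⟨c, hc⟩ := key h K rel hrel
  have hK : ∀ s i, K (Pi.single s 1) i = k s i := fun s i => by simp [K]
  have hF : ∀ i j, F (Pi.single i 1) j = f i := fun i j => by simp [F]
  have hrel' : ∀ t i, ∑ s, rel t s * k s i = 0 := fun t i => by
    have h1 : K (rel t) = 0 := LinearMap.mem_ker.1 (hrel ▸ Submodule.subset_span ⟨t, rfl⟩)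
    have h2 := congrFun h1 i
    rw [sum_single_smul] at h2
    simpa only [hK, Pi.zero_apply] using h2
  choose w hw using fun n => hc₀ (n + c) x fun j => by
    simp only [hF, hfx]; exact zero_mem _
  have hd : ∀ n, ∃ v : Fin q → N, ∀ s, (w (n + 1) s - w n s) - ∑ t, rel t s • v t ∈ a ^ n • (⊤ : Submodule A N) := by
    intro n
    refine hc n (fun s => w (n + 1) s - w n s) fun i => ?_
    have h1 := hw n i
    have h2 := Submodule.smul_mono_left (N := (⊤ : Submodule A N))
      (Ideal.pow_le_pow_right (show n + c ≤ n + 1 + c by omega)) (hw (n + 1) i)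
    have h3 := sub_mem h1 h2
    simp only [hK, smul_sub, Finset.sum_sub_distrib]
    rwa [sub_sub_sub_cancel_left] at h3
  choose v hv using hd
  let z : ℕ → Fin p → N := fun n s => w n s - ∑ t, rel t s • (∑ i ∈ Finset.range n, v i t)
  have hz : ∀ n s, z (n + 1) s - z n s ∈ a ^ n • (⊤ : Submodule A N) := fun n s => by
    have e : z (n + 1) s - z n s = (w (n + 1) s - w n s) - ∑ t, rel t s • v n t := by
      simp only [z, Finset.sum_range_succ, smul_add, Finset.sum_add_distrib]
      abel
    rw [e]; exact hv n s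
  have hcauchy : ∀ s {m n : ℕ}, m ≤ n → z m s ≡ z n s [SMOD (a ^ m • ⊤ : Submodule A N)] := by
    intro s m n hmn
    induction n, hmn using Nat.le_induction with
    | base => rfl
    | succ n hmn ih =>
      refine ih.trans (SModEq.sub_mem.2 ?_)
      rw [← neg_sub]
      exact Submodule.neg_mem _ (Submodule.smul_mono_left (Ideal.pow_le_pow_right hmn) (hz n s))
  choose y hy using fun s => IsPrecomplete.prec (IsAdicComplete.toIsPrecomplete (I := a) (M := N)) (hcauchy s)
  refine ⟨p, fun i s => k s i, y, fun i => ?_, fun s => ?_⟩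
  · refine sub_eq_zero.1 (IsHausdorff.haus (IsAdicComplete.toIsHausdorff (I := a) (M := N)) _ fun n => SModEq.zero.2 ?_)
    have h1 := Submodule.smul_mono_left (N := (⊤ : Submodule A N))
      (Ideal.pow_le_pow_right (Nat.le_add_right n c)) (hw n i)
    have h2 : ∑ s, k s i • (z n s - y s) ∈ a ^ n • (⊤ : Submodule A N) :=
      Submodule.sum_mem _ fun s _ => Submodule.smul_mem _ _ (SModEq.sub_mem.1 (hy s n))
    have h3 : ∑ s, k s i • (∑ t, rel t s • (∑ j ∈ Finset.range n, v j t)) = (0 : N) := by
      simp only [Finset.smul_sum (r := (k _ i : A)) (s := (Finset.univ : Finset (Fin q))), smul_smul]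
      rw [Finset.sum_comm]
      refine Finset.sum_eq_zero fun t _ => ?_
      rw [← Finset.sum_smul]
      simp only [mul_comm (k _ i), hrel', zero_smul]
    have e : x i - ∑ s, k s i • y s = (x i - ∑ s, k s i • w n s) + ∑ s, k s i • (z n s - y s) := by
      simp only [z, smul_sub, Finset.sum_sub_distrib, h3]
      abel
    rw [e]; exact add_mem h1 h2
  · have h1 : F (k s) = 0 := LinearMap.mem_ker.1 (hk ▸ Submodule.subset_span ⟨s, rfl⟩)
    have h2 := congrFun h1 0
    rw [sum_single_smul] at h2
    simpa only [hF, Pi.zero_apply, mul_comm] using h2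

end

/-- Trivial relations from flatness of a level. -/
theorem trivRel_of_flat {R : Type u} [CommRing R] (J : Ideal R) {M : Type u} [AddCommGroup M] [Module R M]
    (hflat : Module.Flat (R ⧸ J) ((R ⧸ J) ⊗[R] M)) {p r : ℕ} (k : Fin p → Fin r → R) (δ : Fin p → M)
    (hrel : ∀ i, ∑ s, k s i • δ s ∈ J • (⊤ : Submodule R M)) :
    ∃ (l : ℕ) (al : Fin l → Fin p → R) (t : Fin l → M), (∀ j i, ∑ s, al j s * k s i ∈ J) ∧
      ∀ s, δ s - ∑ j, al j s • t j ∈ J • (⊤ : Submodule R M) := by
  classical
  let B := R ⧸ J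
  let π : M →ₗ[R] B ⊗[R] M := TensorProduct.mk R B M 1
  have hπ0 : ∀ m, π m = 0 ↔ m ∈ J • (⊤ : Submodule R M) := fun m => by
    rw [← (TensorProduct.quotTensorEquivQuotSMul M J).map_eq_zero_iff, ← Submodule.Quotient.mk_eq_zero]
    simp [π, B]
  have hπs : Function.Surjective π := TensorProduct.mk_surjective R M B Ideal.Quotient.mk_surjective
  let f : (Fin r → B) →ₗ[B] (Fin p → B) := Fintype.linearCombination B fun i s => Ideal.Quotient.mk J (k s i)
  let x : (Fin p → B) →ₗ[B] B ⊗[R] M := Fintype.linearCombination B fun s => π (δ s)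
  have hsm : ∀ (a : R) (m : M), Ideal.Quotient.mk J a • π m = π (a • m) := fun a m => by
    rw [map_smul, ← algebraMap_smul B a]; rfl
  have hxf : x ∘ₗ f = 0 := by
    refine LinearMap.pi_ext' fun i => LinearMap.ext_ring ?_
    simp only [LinearMap.comp_apply, LinearMap.single_apply, f, Fintype.linearCombination_apply_single,
      one_smul, LinearMap.zero_apply]
    simp only [x, Fintype.linearCombination_apply]
    rw [Finset.sum_congr rfl fun s _ => hsm (k s i) (δ s), ← map_sum, hπ0]
    exact hrel i
  obtain ⟨l, a, y, hya, haf⟩ := Module.Flat.exists_factorization_of_comp_eq_zero_of_free hxf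
  choose al hal using fun (j : Fin l) (s : Fin p) => Ideal.Quotient.mk_surjective (a (Pi.single s 1) j)
  choose t ht using fun j : Fin l => hπs (y (Finsupp.single j 1))
  refine ⟨l, al, t, fun j i => ?_, fun s => ?_⟩
  · rw [← Ideal.Quotient.eq_zero_iff_mem, map_sum]
    have h1 : a (f (Pi.single i 1)) j = 0 := by
      rw [← LinearMap.comp_apply, haf, LinearMap.zero_apply]; rfl
    simp only [f, Fintype.linearCombination_apply_single, one_smul] at h1
    rw [pi_eq_sum_univ (fun s => Ideal.Quotient.mk J (k s i)), map_sum, Finsupp.finset_sum_apply] at h1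
    rw [← h1]
    refine Finset.sum_congr rfl fun s _ => ?_
    rw [map_smul, Finsupp.smul_apply, smul_eq_mul, map_mul, hal, mul_comm]
    have h2 : (fun t => if s = t then (1 : B) else 0) = Pi.single s 1 := by
      ext t; simp [Pi.single_apply, eq_comm]
    rw [h2]
  · rw [← hπ0, map_sub, sub_eq_zero, map_sum]
    have h1 : x (Pi.single s 1) = y (a (Pi.single s 1)) := LinearMap.congr_fun hya _
    simp only [x, Fintype.linearCombination_apply_single, one_smul] at h1
    rw [h1, ← Finsupp.univ_sum_single (a (Pi.single s 1)), map_sum]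
    refine Finset.sum_congr rfl fun j _ => ?_
    rw [← hsm, hal, ht, ← map_smul, Finsupp.smul_single, smul_eq_mul, mul_one]

theorem flat_level {R : Type u} [CommRing R] (I : Ideal R) {M : Type u} [AddCommGroup M] [Module R M]
    (h1 : Function.Injective (I.subtype.lTensor M)) (h2 : Module.Flat (R ⧸ I) ((R ⧸ I) ⊗[R] M)) (n : ℕ) :
    Module.Flat (R ⧸ I ^ n) ((R ⧸ I ^ n) ⊗[R] M) :=
  GrothLib.FibreFlat.flat_quotient_of_lTensor_injective (I ^ n) fun A B _ _ _ _ f _ hB hf =>
    GrothLib.Flatness.Good.lTensor_injective f hf (GrothLib.Flatness.good_of_pow I h1 h2 n _ fun x a => by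
      obtain ⟨b, rfl⟩ := Submodule.mkQ_surjective (LinearMap.range f) x
      rw [← map_smul, @hB b a, map_zero])

theorem levelTriv_completion {R : Type u} [CommRing R] {I : Ideal R} (hI : I.FG) {M : Type u} [AddCommGroup M]
    [Module R M] (n : ℕ) (hflat : Module.Flat (R ⧸ I ^ n) ((R ⧸ I ^ n) ⊗[R] M)) :
    LevelTriv ((I.map (algebraMap R (AdicCompletion I R))) ^ n) (AdicCompletion I M) := by
  classical
  let a := (I.map (algebraMap R (AdicCompletion I R))) ^ n
  have hmem : ∀ x : (AdicCompletion I M), x ∈ a • (⊤ : Submodule (AdicCompletion I R) (AdicCompletion I M)) ↔ AdicCompletion.eval I M n x = 0 := fun x => by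
    rw [← LinearMap.mem_ker, ← AdicCompletion.pow_smul_top_eq_ker_eval hI,
      ← Submodule.restrictScalars_mem R (a • (⊤ : Submodule (AdicCompletion I R) (AdicCompletion I M)))]
    show _ ↔ _
    simp only [a, ← Ideal.map_pow, Submodule.restrictScalars_map_smul_eq, Submodule.restrictScalars_top]
  have happ : ∀ z : (AdicCompletion I R), ∃ z' : R, z - algebraMap R (AdicCompletion I R) z' ∈ a := fun z => by
    obtain ⟨z', hz'⟩ := Submodule.mkQ_surjective _ (AdicCompletion.eval I R n z)
    refine ⟨z', ?_⟩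
    have h : z - algebraMap R (AdicCompletion I R) z' ∈ (I ^ n • ⊤ : Submodule R (AdicCompletion I R)) := by
      rw [AdicCompletion.pow_smul_top_eq_ker_eval hI, LinearMap.mem_ker, map_sub, sub_eq_zero, ← hz']
      rfl
    rw [← Submodule.restrictScalars_top (R := (AdicCompletion I R)) (S := R), ← Submodule.restrictScalars_map_smul_eq,
      Submodule.restrictScalars_mem, Ideal.map_pow, smul_eq_mul, Ideal.mul_top] at h
    exact h
  have hrep : ∀ d : (AdicCompletion I M), ∃ m : M, d - AdicCompletion.of I M m ∈ a • (⊤ : Submodule (AdicCompletion I R) (AdicCompletion I M)) := fun d => by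
    obtain ⟨m, hm⟩ := Submodule.mkQ_surjective _ (AdicCompletion.eval I M n d)
    exact ⟨m, (hmem _).2 (by rw [map_sub, AdicCompletion.eval_of, ← hm, Submodule.mkQ_apply, sub_self])⟩
  intro p r f δ hδ
  choose k hk using fun s i => happ (f (Pi.single s 1) i)
  choose d hd using fun s => hrep (δ s)
  have hsmul : ∀ (z : (AdicCompletion I R)) (z' : R) (x : (AdicCompletion I M)) (m : M), z - algebraMap R (AdicCompletion I R) z' ∈ a →
      x - AdicCompletion.of I M m ∈ a • (⊤ : Submodule (AdicCompletion I R) (AdicCompletion I M)) →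
      z • x - AdicCompletion.of I M (z' • m) ∈ a • (⊤ : Submodule (AdicCompletion I R) (AdicCompletion I M)) := by
    intro z z' x m hz hx
    have e : z • x - AdicCompletion.of I M (z' • m) =
        z • (x - AdicCompletion.of I M m) + (z - algebraMap R (AdicCompletion I R) z') • AdicCompletion.of I M m := by
      rw [smul_sub, sub_smul, algebraMap_smul, LinearMap.map_smul_of_tower]; abel
    rw [e]
    exact add_mem (Submodule.smul_mem _ _ hx) (Submodule.smul_mem_smul hz Submodule.mem_top)
  obtain ⟨l, al, t, hal, ht⟩ := trivRel_of_flat (I ^ n) hflat k d fun i => by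
    have h1 : AdicCompletion.of I M (∑ s, k s i • d s) ∈ a • (⊤ : Submodule (AdicCompletion I R) (AdicCompletion I M)) := by
      rw [map_sum, ← sub_sub_cancel (∑ s, f (Pi.single s 1) i • δ s) (∑ s, AdicCompletion.of I M (k s i • d s)),
        ← Finset.sum_sub_distrib]
      exact sub_mem (hδ i) (Submodule.sum_mem _ fun s _ => hsmul _ _ _ _ (hk s i) (hd s))
    rwa [hmem, AdicCompletion.eval_of, Submodule.mkQ_apply, Submodule.Quotient.mk_eq_zero] at h1
  refine ⟨l, fun j s => algebraMap R (AdicCompletion I R) (al j s), fun j => AdicCompletion.of I M (t j), fun j i => ?_, fun s => ?_⟩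
  · rw [sum_single_smul]
    have e : ∑ s, algebraMap R (AdicCompletion I R) (al j s) * f (Pi.single s 1) i =
        ∑ s, algebraMap R (AdicCompletion I R) (al j s) * (f (Pi.single s 1) i - algebraMap R (AdicCompletion I R) (k s i)) +
          algebraMap R (AdicCompletion I R) (∑ s, al j s * k s i) := by
      simp [mul_sub, Finset.sum_sub_distrib]
    rw [e]
    refine add_mem (Submodule.sum_mem _ fun s _ => a.mul_mem_left _ (hk s i)) ?_
    show _ ∈ a
    simp only [a, ← Ideal.map_pow]
    exact Ideal.mem_map_of_mem _ (hal j i)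
  · have e : δ s - ∑ j, algebraMap R (AdicCompletion I R) (al j s) • AdicCompletion.of I M (t j) =
        (δ s - AdicCompletion.of I M (d s)) + AdicCompletion.of I M (d s - ∑ j, al j s • t j) := by
      simp only [algebraMap_smul, map_sub, map_sum, map_smul]; abel
    rw [e]
    refine add_mem (hd s) ((hmem _).2 ?_)
    rw [AdicCompletion.eval_of, Submodule.mkQ_apply, Submodule.Quotient.mk_eq_zero]
    exact ht s

end GrothLib.FlatComplete
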